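import Cfsg.Agent.Spor.LyMcc.D0

set_option autoImplicit false
set_option maxRecDepth 100000000
set_option Elab.async false

namespace Cfsg.Agent.Spor.LyMcc

theorem ok0 : Net.okb 9 n0 = true := by decide +kernel

theorem ok1 : Net.okb 9 n1 = true := by decide +kernel

theorem ok2 : Net.okb 9 n2 = true := by decide +kernel

theorem rel0 : T.rel 9 [1, 1] 0 9 = true := by decide +kernel

theorem rel1 : T.rel 9 [3, 3, 3, 3] 0 9 = true := by decide +kernel

theorem rel2 : T.rel 9 [1, 2, 2, 1, 5, 2, 3] 0 9 = true := by decide +kernel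

theorem rel3 : T.rel 9 [1, 3, 1, 3, 3, 1, 5] 0 9 = true := by decide +kernel

theorem rel4 : T.rel 9 [2, 3, 4, 3, 4, 4, 5, 5] 0 9 = true := by decide +kernel

theorem rel5 : T.rel 9 [1, 2, 1, 2, 1, 4, 1, 4] 0 9 = true := by decide +kernel

theorem hcov : T.treeCov (ones 500) L 1 = true := by decide +kernel

theorem hg : lall (fun z => band (memL L z) (band (sub (ones 500) (T.let z).cl) (T.closed (ones 500) z))) gs = true := by decide +kernel

theorem rot1_1 : T.rot 1 [1] (sel (ones 500) ip1 1) = true := by decide +kernel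

theorem rot1_1r : band (Rule.ok (2 * 1) EX RL ⟨1 :: [1], [], 5, false⟩) (lall (memL L) [1]) = true := by decide +kernel

theorem rot1_2 : T.rot 1 [2, 2, 1, 5, 2, 3] (sel (ones 500) ip1 2) = true := by decide +kernel

theorem rot1_2r : band (Rule.ok (2 * 1) EX RL ⟨1 :: [2, 2, 1, 5, 2, 3], [], 1, true⟩) (lall (memL L) [2, 2, 1, 5, 2, 3]) = true := by decide +kernel

theorem rot1_3 : T.rot 1 [5, 2, 3, 1, 2, 2] (sel (ones 500) ip1 3) = true := by decide +kernel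

theorem rot1_3r : band (Rule.ok (2 * 1) EX RL ⟨1 :: [5, 2, 3, 1, 2, 2], [0, 3, 3], 1, true⟩) (lall (memL L) [5, 2, 3, 1, 2, 2]) = true := by decide +kernel

theorem rot1_4 : T.rot 1 [4, 4, 1, 5, 4, 3] (sel (ones 500) ip1 4) = true := by decide +kernel

theorem rot1_4r : band (Rule.ok (2 * 1) EX RL ⟨1 :: [4, 4, 1, 5, 4, 3], [4, 2, 5], 1, false⟩) (lall (memL L) [4, 4, 1, 5, 4, 3]) = true := by decide +kernel

theorem rot1_5 : T.rot 1 [5, 4, 3, 1, 4, 4] (sel (ones 500) ip1 5) = true := by decide +kernel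

theorem rot1_5r : band (Rule.ok (2 * 1) EX RL ⟨1 :: [5, 4, 3, 1, 4, 4], [0], 1, false⟩) (lall (memL L) [5, 4, 3, 1, 4, 4]) = true := by decide +kernel

theorem rot1_6 : T.rot 1 [3, 1, 3, 3, 1, 5] (sel (ones 500) ip1 6) = true := by decide +kernel

theorem rot1_6r : band (Rule.ok (2 * 1) EX RL ⟨1 :: [3, 1, 3, 3, 1, 5], [], 2, true⟩) (lall (memL L) [3, 1, 3, 3, 1, 5]) = true := by decide +kernel

theorem rot1_7 : T.rot 1 [3, 3, 1, 5, 1, 3] (sel (ones 500) ip1 7) = true := by decide +kernel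

theorem rot1_7r : band (Rule.ok (2 * 1) EX RL ⟨1 :: [3, 3, 1, 5, 1, 3], [0, 5], 2, true⟩) (lall (memL L) [3, 3, 1, 5, 1, 3]) = true := by decide +kernel

theorem rot1_8 : T.rot 1 [5, 1, 3, 1, 3, 3] (sel (ones 500) ip1 8) = true := by decide +kernel

theorem rot1_8r : band (Rule.ok (2 * 1) EX RL ⟨1 :: [5, 1, 3, 1, 3, 3], [5, 0], 2, true⟩) (lall (memL L) [5, 1, 3, 1, 3, 3]) = true := by decide +kernel

theorem rot1_9 : T.rot 1 [5, 5, 1, 5, 1, 3] (sel (ones 500) ip1 9) = true := by decide +kernel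

theorem rot1_9r : band (Rule.ok (2 * 1) EX RL ⟨1 :: [5, 5, 1, 5, 1, 3], [5], 2, false⟩) (lall (memL L) [5, 5, 1, 5, 1, 3]) = true := by decide +kernel

theorem rot1_10 : T.rot 1 [5, 1, 3, 1, 5, 5] (sel (ones 500) ip1 10) = true := by decide +kernel

theorem rot1_10r : band (Rule.ok (2 * 1) EX RL ⟨1 :: [5, 1, 3, 1, 5, 5], [0, 5, 0], 2, false⟩) (lall (memL L) [5, 1, 3, 1, 5, 5]) = true := by decide +kernel

theorem rot1_11 : T.rot 1 [3, 1, 5, 5, 1, 5] (sel (ones 500) ip1 11) = true := by decide +kernel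

theorem rot1_11r : band (Rule.ok (2 * 1) EX RL ⟨1 :: [3, 1, 5, 5, 1, 5], [0], 2, false⟩) (lall (memL L) [3, 1, 5, 5, 1, 5]) = true := by decide +kernel

theorem rot1_12 : T.rot 1 [2, 1, 2, 1, 4, 1, 4] (sel (ones 500) ip1 12) = true := by decide +kernel

theorem rot1_12r : band (Rule.ok (2 * 1) EX RL ⟨1 :: [2, 1, 2, 1, 4, 1, 4], [], 4, true⟩) (lall (memL L) [2, 1, 2, 1, 4, 1, 4]) = true := by decide +kernel

theorem rot1_13 : T.rot 1 [2, 1, 4, 1, 4, 1, 2] (sel (ones 500) ip1 13) = true := by decide +kernel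

theorem rot1_13r : band (Rule.ok (2 * 1) EX RL ⟨1 :: [2, 1, 4, 1, 4, 1, 2], [3], 4, false⟩) (lall (memL L) [2, 1, 4, 1, 4, 1, 2]) = true := by decide +kernel

theorem rot1_14 : T.rot 1 [4, 1, 4, 1, 2, 1, 2] (sel (ones 500) ip1 14) = true := by decide +kernel

theorem rot1_14r : band (Rule.ok (2 * 1) EX RL ⟨1 :: [4, 1, 4, 1, 2, 1, 2], [3, 0, 3], 4, false⟩) (lall (memL L) [4, 1, 4, 1, 2, 1, 2]) = true := by decide +kernel

theorem rot1_15 : T.rot 1 [4, 1, 2, 1, 2, 1, 4] (sel (ones 500) ip1 15) = true := by decide +kernel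

theorem rot1_15r : band (Rule.ok (2 * 1) EX RL ⟨1 :: [4, 1, 2, 1, 2, 1, 4], [3, 0], 4, true⟩) (lall (memL L) [4, 1, 2, 1, 2, 1, 4]) = true := by decide +kernel

theorem cov1 : T.cover 1 [(sel (ones 500) ip1 1), (sel (ones 500) ip1 2), (sel (ones 500) ip1 3), (sel (ones 500) ip1 4), (sel (ones 500) ip1 5), (sel (ones 500) ip1 6), (sel (ones 500) ip1 7), (sel (ones 500) ip1 8), (sel (ones 500) ip1 9), (sel (ones 500) ip1 10), (sel (ones 500) ip1 11), (sel (ones 500) ip1 12), (sel (ones 500) ip1 13), (sel (ones 500) ip1 14), (sel (ones 500) ip1 15)] = true := by decide +kernel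

theorem tl1 : T.treeLt 9 1 = true := by decide +kernel

theorem rot2_1 : T.rot 2 [4] (sel (ones 500) ip2 1) = true := by decide +kernel

theorem rot2_1r : band (Rule.ok (2 * 1) EX RL ⟨2 :: [4], [], 5, false⟩) (lall (memL L) [4]) = true := by decide +kernel

theorem rot2_2 : T.rot 2 [2, 1, 5, 2, 3, 1] (sel (ones 500) ip2 2) = true := by decide +kernel

theorem rot2_2r : band (Rule.ok (2 * 1) EX RL ⟨2 :: [2, 1, 5, 2, 3, 1], [0], 1, true⟩) (lall (memL L) [2, 1, 5, 2, 3, 1]) = true := by decide +kernel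

theorem rot2_3 : T.rot 2 [1, 5, 2, 3, 1, 2] (sel (ones 500) ip2 3) = true := by decide +kernel

theorem rot2_3r : band (Rule.ok (2 * 1) EX RL ⟨2 :: [1, 5, 2, 3, 1, 2], [0, 3], 1, true⟩) (lall (memL L) [1, 5, 2, 3, 1, 2]) = true := by decide +kernel

theorem rot2_4 : T.rot 2 [3, 1, 2, 2, 1, 5] (sel (ones 500) ip2 4) = true := by decide +kernel

theorem rot2_4r : band (Rule.ok (2 * 1) EX RL ⟨2 :: [3, 1, 2, 2, 1, 5], [4, 2], 1, true⟩) (lall (memL L) [3, 1, 2, 2, 1, 5]) = true := by decide +kernel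

theorem rot2_5 : T.rot 2 [3, 4, 3, 4, 4, 5, 5] (sel (ones 500) ip2 5) = true := by decide +kernel

theorem rot2_5r : band (Rule.ok (2 * 1) EX RL ⟨2 :: [3, 4, 3, 4, 4, 5, 5], [], 3, true⟩) (lall (memL L) [3, 4, 3, 4, 4, 5, 5]) = true := by decide +kernel

theorem rot2_6 : T.rot 2 [2, 5, 2, 5, 4, 3, 3] (sel (ones 500) ip2 6) = true := by decide +kernel

theorem rot2_6r : band (Rule.ok (2 * 1) EX RL ⟨2 :: [2, 5, 2, 5, 4, 3, 3], [5, 5], 3, false⟩) (lall (memL L) [2, 5, 2, 5, 4, 3, 3]) = true := by decide +kernel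

theorem rot2_7 : T.rot 2 [5, 2, 5, 4, 3, 3, 2] (sel (ones 500) ip2 7) = true := by decide +kernel

theorem rot2_7r : band (Rule.ok (2 * 1) EX RL ⟨2 :: [5, 2, 5, 4, 3, 3, 2], [5, 5, 3], 3, false⟩) (lall (memL L) [5, 2, 5, 4, 3, 3, 2]) = true := by decide +kernel

theorem rot2_8 : T.rot 2 [5, 4, 3, 3, 2, 2, 5] (sel (ones 500) ip2 8) = true := by decide +kernel

theorem rot2_8r : band (Rule.ok (2 * 1) EX RL ⟨2 :: [5, 4, 3, 3, 2, 2, 5], [3, 5, 2], 3, false⟩) (lall (memL L) [5, 4, 3, 3, 2, 2, 5]) = true := by decide +kernel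

theorem rot2_9 : T.rot 2 [1, 2, 1, 4, 1, 4, 1] (sel (ones 500) ip2 9) = true := by decide +kernel

theorem rot2_9r : band (Rule.ok (2 * 1) EX RL ⟨2 :: [1, 2, 1, 4, 1, 4, 1], [], 4, false⟩) (lall (memL L) [1, 2, 1, 4, 1, 4, 1]) = true := by decide +kernel

theorem rot2_10 : T.rot 2 [1, 4, 1, 4, 1, 2, 1] (sel (ones 500) ip2 10) = true := by decide +kernel

theorem rot2_10r : band (Rule.ok (2 * 1) EX RL ⟨2 :: [1, 4, 1, 4, 1, 2, 1], [3, 0], 4, false⟩) (lall (memL L) [1, 4, 1, 4, 1, 2, 1]) = true := by decide +kernel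

theorem cov2 : T.cover 2 [(sel (ones 500) ip2 1), (sel (ones 500) ip2 2), (sel (ones 500) ip2 3), (sel (ones 500) ip2 4), (sel (ones 500) ip2 5), (sel (ones 500) ip2 6), (sel (ones 500) ip2 7), (sel (ones 500) ip2 8), (sel (ones 500) ip2 9), (sel (ones 500) ip2 10)] = true := by decide +kernel

theorem tl2 : T.treeLt 9 2 = true := by decide +kernel

theorem rot3_1 : T.rot 3 [5] (sel (ones 500) ip3 1) = true := by decide +kernel

theorem rot3_1r : band (Rule.ok (2 * 1) EX RL ⟨3 :: [5], [], 5, false⟩) (lall (memL L) [5]) = true := by decide +kernel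

theorem rot3_2 : T.rot 3 [3, 3, 3] (sel (ones 500) ip3 2) = true := by decide +kernel

theorem rot3_2r : band (Rule.ok (2 * 1) EX RL ⟨3 :: [3, 3, 3], [], 0, true⟩) (lall (memL L) [3, 3, 3]) = true := by decide +kernel

theorem rot3_3 : T.rot 3 [1, 2, 2, 1, 5, 2] (sel (ones 500) ip3 3) = true := by decide +kernel

theorem rot3_3r : band (Rule.ok (2 * 1) EX RL ⟨3 :: [1, 2, 2, 1, 5, 2], [4], 1, true⟩) (lall (memL L) [1, 2, 2, 1, 5, 2]) = true := by decide +kernel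

theorem rot3_4 : T.rot 3 [1, 4, 4, 1, 5, 4] (sel (ones 500) ip3 4) = true := by decide +kernel

theorem rot3_4r : band (Rule.ok (2 * 1) EX RL ⟨3 :: [1, 4, 4, 1, 5, 4], [4, 2], 1, false⟩) (lall (memL L) [1, 4, 4, 1, 5, 4]) = true := by decide +kernel

theorem rot3_5 : T.rot 3 [1, 3, 3, 1, 5, 1] (sel (ones 500) ip3 5) = true := by decide +kernel

theorem rot3_5r : band (Rule.ok (2 * 1) EX RL ⟨3 :: [1, 3, 3, 1, 5, 1], [0], 2, true⟩) (lall (memL L) [1, 3, 3, 1, 5, 1]) = true := by decide +kernel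

theorem rot3_6 : T.rot 3 [3, 1, 5, 1, 3, 1] (sel (ones 500) ip3 6) = true := by decide +kernel

theorem rot3_6r : band (Rule.ok (2 * 1) EX RL ⟨3 :: [3, 1, 5, 1, 3, 1], [0, 5, 0], 2, true⟩) (lall (memL L) [3, 1, 5, 1, 3, 1]) = true := by decide +kernel

theorem rot3_7 : T.rot 3 [1, 5, 1, 3, 1, 3] (sel (ones 500) ip3 7) = true := by decide +kernel

theorem rot3_7r : band (Rule.ok (2 * 1) EX RL ⟨3 :: [1, 5, 1, 3, 1, 3], [5, 0, 4], 2, true⟩) (lall (memL L) [1, 5, 1, 3, 1, 3]) = true := by decide +kernel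

theorem rot3_8 : T.rot 3 [1, 5, 5, 1, 5, 1] (sel (ones 500) ip3 8) = true := by decide +kernel

theorem rot3_8r : band (Rule.ok (2 * 1) EX RL ⟨3 :: [1, 5, 5, 1, 5, 1], [], 2, false⟩) (lall (memL L) [1, 5, 5, 1, 5, 1]) = true := by decide +kernel

theorem rot3_9 : T.rot 3 [4, 3, 4, 4, 5, 5, 2] (sel (ones 500) ip3 9) = true := by decide +kernel

theorem rot3_9r : band (Rule.ok (2 * 1) EX RL ⟨3 :: [4, 3, 4, 4, 5, 5, 2], [3], 3, true⟩) (lall (memL L) [4, 3, 4, 4, 5, 5, 2]) = true := by decide +kernel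

theorem rot3_10 : T.rot 3 [4, 4, 5, 5, 2, 3, 4] (sel (ones 500) ip3 10) = true := by decide +kernel

theorem rot3_10r : band (Rule.ok (2 * 1) EX RL ⟨3 :: [4, 4, 5, 5, 2, 3, 4], [3, 5, 2], 3, true⟩) (lall (memL L) [4, 4, 5, 5, 2, 3, 4]) = true := by decide +kernel

theorem rot3_11 : T.rot 3 [3, 2, 2, 5, 2, 5, 4] (sel (ones 500) ip3 11) = true := by decide +kernel

theorem rot3_11r : band (Rule.ok (2 * 1) EX RL ⟨3 :: [3, 2, 2, 5, 2, 5, 4], [], 3, false⟩) (lall (memL L) [3, 2, 2, 5, 2, 5, 4]) = true := by decide +kernel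

theorem rot3_12 : T.rot 3 [2, 2, 5, 2, 5, 4, 3] (sel (ones 500) ip3 12) = true := by decide +kernel

theorem rot3_12r : band (Rule.ok (2 * 1) EX RL ⟨3 :: [2, 2, 5, 2, 5, 4, 3], [5], 3, false⟩) (lall (memL L) [2, 2, 5, 2, 5, 4, 3]) = true := by decide +kernel

theorem cov3 : T.cover 3 [(sel (ones 500) ip3 1), (sel (ones 500) ip3 2), (sel (ones 500) ip3 3), (sel (ones 500) ip3 4), (sel (ones 500) ip3 5), (sel (ones 500) ip3 6), (sel (ones 500) ip3 7), (sel (ones 500) ip3 8), (sel (ones 500) ip3 9), (sel (ones 500) ip3 10), (sel (ones 500) ip3 11), (sel (ones 500) ip3 12)] = true := by decide +kernel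

theorem tl3 : T.treeLt 9 3 = true := by decide +kernel

theorem rot4_1 : T.rot 4 [2] (sel (ones 500) ip4 1) = true := by decide +kernel

theorem rot4_1r : band (Rule.ok (2 * 1) EX RL ⟨4 :: [2], [], 5, false⟩) (lall (memL L) [2]) = true := by decide +kernel

theorem rot4_2 : T.rot 4 [3, 1, 4, 4, 1, 5] (sel (ones 500) ip4 2) = true := by decide +kernel

theorem rot4_2r : band (Rule.ok (2 * 1) EX RL ⟨4 :: [3, 1, 4, 4, 1, 5], [4], 1, false⟩) (lall (memL L) [3, 1, 4, 4, 1, 5]) = true := by decide +kernel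

theorem rot4_3 : T.rot 4 [4, 1, 5, 4, 3, 1] (sel (ones 500) ip4 3) = true := by decide +kernel

theorem rot4_3r : band (Rule.ok (2 * 1) EX RL ⟨4 :: [4, 1, 5, 4, 3, 1], [0, 3, 3], 1, false⟩) (lall (memL L) [4, 1, 5, 4, 3, 1]) = true := by decide +kernel

theorem rot4_4 : T.rot 4 [1, 5, 4, 3, 1, 4] (sel (ones 500) ip4 4) = true := by decide +kernel

theorem rot4_4r : band (Rule.ok (2 * 1) EX RL ⟨4 :: [1, 5, 4, 3, 1, 4], [0, 3], 1, false⟩) (lall (memL L) [1, 5, 4, 3, 1, 4]) = true := by decide +kernel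

theorem rot4_5 : T.rot 4 [3, 4, 4, 5, 5, 2, 3] (sel (ones 500) ip4 5) = true := by decide +kernel

theorem rot4_5r : band (Rule.ok (2 * 1) EX RL ⟨4 :: [3, 4, 4, 5, 5, 2, 3], [3, 5], 3, true⟩) (lall (memL L) [3, 4, 4, 5, 5, 2, 3]) = true := by decide +kernel

theorem rot4_6 : T.rot 4 [4, 5, 5, 2, 3, 4, 3] (sel (ones 500) ip4 6) = true := by decide +kernel

theorem rot4_6r : band (Rule.ok (2 * 1) EX RL ⟨4 :: [4, 5, 5, 2, 3, 4, 3], [5, 5, 3, 3], 3, true⟩) (lall (memL L) [4, 5, 5, 2, 3, 4, 3]) = true := by decide +kernel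

theorem rot4_7 : T.rot 4 [5, 5, 2, 3, 4, 3, 4] (sel (ones 500) ip4 7) = true := by decide +kernel

theorem rot4_7r : band (Rule.ok (2 * 1) EX RL ⟨4 :: [5, 5, 2, 3, 4, 3, 4], [5, 5, 3], 3, true⟩) (lall (memL L) [5, 5, 2, 3, 4, 3, 4]) = true := by decide +kernel

theorem rot4_8 : T.rot 4 [3, 3, 2, 2, 5, 2, 5] (sel (ones 500) ip4 8) = true := by decide +kernel

theorem rot4_8r : band (Rule.ok (2 * 1) EX RL ⟨4 :: [3, 3, 2, 2, 5, 2, 5], [3], 3, false⟩) (lall (memL L) [3, 3, 2, 2, 5, 2, 5]) = true := by decide +kernel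

theorem rot4_9 : T.rot 4 [1, 4, 1, 2, 1, 2, 1] (sel (ones 500) ip4 9) = true := by decide +kernel

theorem rot4_9r : band (Rule.ok (2 * 1) EX RL ⟨4 :: [1, 4, 1, 2, 1, 2, 1], [3, 0, 3], 4, true⟩) (lall (memL L) [1, 4, 1, 2, 1, 2, 1]) = true := by decide +kernel

theorem rot4_10 : T.rot 4 [1, 2, 1, 2, 1, 4, 1] (sel (ones 500) ip4 10) = true := by decide +kernel

theorem rot4_10r : band (Rule.ok (2 * 1) EX RL ⟨4 :: [1, 2, 1, 2, 1, 4, 1], [3], 4, true⟩) (lall (memL L) [1, 2, 1, 2, 1, 4, 1]) = true := by decide +kernel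

theorem cov4 : T.cover 4 [(sel (ones 500) ip4 1), (sel (ones 500) ip4 2), (sel (ones 500) ip4 3), (sel (ones 500) ip4 4), (sel (ones 500) ip4 5), (sel (ones 500) ip4 6), (sel (ones 500) ip4 7), (sel (ones 500) ip4 8), (sel (ones 500) ip4 9), (sel (ones 500) ip4 10)] = true := by decide +kernel

theorem tl4 : T.treeLt 9 4 = true := by decide +kernel

theorem rot5_1 : T.rot 5 [3] (sel (ones 500) ip5 1) = true := by decide +kernel

theorem rot5_1r : band (Rule.ok (2 * 1) EX RL ⟨5 :: [3], [], 5, false⟩) (lall (memL L) [3]) = true := by decide +kernel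

theorem rot5_2 : T.rot 5 [5, 5, 5] (sel (ones 500) ip5 2) = true := by decide +kernel

theorem rot5_2r : band (Rule.ok (2 * 1) EX RL ⟨5 :: [5, 5, 5], [], 0, false⟩) (lall (memL L) [5, 5, 5]) = true := by decide +kernel

theorem rot5_3 : T.rot 5 [2, 3, 1, 2, 2, 1] (sel (ones 500) ip5 3) = true := by decide +kernel

theorem rot5_3r : band (Rule.ok (2 * 1) EX RL ⟨5 :: [2, 3, 1, 2, 2, 1], [4, 2, 5], 1, true⟩) (lall (memL L) [2, 3, 1, 2, 2, 1]) = true := by decide +kernel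

theorem rot5_4 : T.rot 5 [4, 3, 1, 4, 4, 1] (sel (ones 500) ip5 4) = true := by decide +kernel

theorem rot5_4r : band (Rule.ok (2 * 1) EX RL ⟨5 :: [4, 3, 1, 4, 4, 1], [], 1, false⟩) (lall (memL L) [4, 3, 1, 4, 4, 1]) = true := by decide +kernel

theorem rot5_5 : T.rot 5 [1, 3, 1, 3, 3, 1] (sel (ones 500) ip5 5) = true := by decide +kernel

theorem rot5_5r : band (Rule.ok (2 * 1) EX RL ⟨5 :: [1, 3, 1, 3, 3, 1], [5], 2, true⟩) (lall (memL L) [1, 3, 1, 3, 3, 1]) = true := by decide +kernel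

theorem rot5_6 : T.rot 5 [5, 1, 5, 1, 3, 1] (sel (ones 500) ip5 6) = true := by decide +kernel

theorem rot5_6r : band (Rule.ok (2 * 1) EX RL ⟨5 :: [5, 1, 5, 1, 3, 1], [5, 0], 2, false⟩) (lall (memL L) [5, 1, 5, 1, 3, 1]) = true := by decide +kernel

theorem rot5_7 : T.rot 5 [1, 5, 1, 3, 1, 5] (sel (ones 500) ip5 7) = true := by decide +kernel

theorem rot5_7r : band (Rule.ok (2 * 1) EX RL ⟨5 :: [1, 5, 1, 3, 1, 5], [5, 0, 4], 2, false⟩) (lall (memL L) [1, 5, 1, 3, 1, 5]) = true := by decide +kernel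

theorem rot5_8 : T.rot 5 [1, 3, 1, 5, 5, 1] (sel (ones 500) ip5 8) = true := by decide +kernel

theorem rot5_8r : band (Rule.ok (2 * 1) EX RL ⟨5 :: [1, 3, 1, 5, 5, 1], [0, 5], 2, false⟩) (lall (memL L) [1, 3, 1, 5, 5, 1]) = true := by decide +kernel

theorem rot5_9 : T.rot 5 [5, 2, 3, 4, 3, 4, 4] (sel (ones 500) ip5 9) = true := by decide +kernel

theorem rot5_9r : band (Rule.ok (2 * 1) EX RL ⟨5 :: [5, 2, 3, 4, 3, 4, 4], [5, 5], 3, true⟩) (lall (memL L) [5, 2, 3, 4, 3, 4, 4]) = true := by decide +kernel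

theorem rot5_10 : T.rot 5 [2, 3, 4, 3, 4, 4, 5] (sel (ones 500) ip5 10) = true := by decide +kernel

theorem rot5_10r : band (Rule.ok (2 * 1) EX RL ⟨5 :: [2, 3, 4, 3, 4, 4, 5], [5], 3, true⟩) (lall (memL L) [2, 3, 4, 3, 4, 4, 5]) = true := by decide +kernel

theorem rot5_11 : T.rot 5 [2, 5, 4, 3, 3, 2, 2] (sel (ones 500) ip5 11) = true := by decide +kernel

theorem rot5_11r : band (Rule.ok (2 * 1) EX RL ⟨5 :: [2, 5, 4, 3, 3, 2, 2], [3, 5, 2, 5], 3, false⟩) (lall (memL L) [2, 5, 4, 3, 3, 2, 2]) = true := by decide +kernel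

theorem rot5_12 : T.rot 5 [4, 3, 3, 2, 2, 5, 2] (sel (ones 500) ip5 12) = true := by decide +kernel

theorem rot5_12r : band (Rule.ok (2 * 1) EX RL ⟨5 :: [4, 3, 3, 2, 2, 5, 2], [3, 5], 3, false⟩) (lall (memL L) [4, 3, 3, 2, 2, 5, 2]) = true := by decide +kernel

theorem cov5 : T.cover 5 [(sel (ones 500) ip5 1), (sel (ones 500) ip5 2), (sel (ones 500) ip5 3), (sel (ones 500) ip5 4), (sel (ones 500) ip5 5), (sel (ones 500) ip5 6), (sel (ones 500) ip5 7), (sel (ones 500) ip5 8), (sel (ones 500) ip5 9), (sel (ones 500) ip5 10), (sel (ones 500) ip5 11), (sel (ones 500) ip5 12)] = true := by decide +kernel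

theorem tl5 : T.treeLt 9 5 = true := by decide +kernel

end Cfsg.Agent.Spor.LyMcc
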